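import Cfsg.Agent.Lib.Helper19.SPU.Defs

/-!
# SPU (S2316) package [SUM1] (and shared tools for [SUM2])

`PkgDec1 → PkgEven → PkgSum1`: the strata of even stable rank exhaust the isometry group.
-/

set_option autoImplicit false

namespace Cfsg.Agent.Lib.Helper35.SPU

open Matrix Cfsg.Agent.Lib.Helper19.SPU

universe u

/-- a sum over `range (2m+1)` of a function vanishing at odd arguments -/
theorem sum_range_even_only (c : ℕ → ℕ) (hc : ∀ r, ¬ Even r → c r = 0) (m : ℕ) :
    ∑ r ∈ Finset.range (2 * m + 1), c r = ∑ l ∈ Finset.range (m + 1), c (2 * l) := by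
  induction m with
  | zero => simp
  | succ k ih =>
    have h1 : 2 * (k + 1) + 1 = (2 * k + 1) + 1 + 1 := by ring
    rw [h1, Finset.sum_range_succ, Finset.sum_range_succ, ih,
      Finset.sum_range_succ (fun l => c (2 * l)) (k + 1)]
    have h2 : c (2 * k + 1) = 0 := hc _ (by simp)
    have h3 : 2 * k + 1 + 1 = 2 * (k + 1) := by ring
    rw [h2, h3, add_zero]

section generic

variable {F : Type u} [Field F] {n : Type} [Fintype n] [DecidableEq n]

/-- fiberwise count by the stable rank of `M g` -/
theorem card_eq_sum_stableRank [Fintype F] (p : Matrix n n F → Prop)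
    (M : Matrix n n F → Matrix n n F) :
    Nat.card {g : Matrix n n F // p g} =
      ∑ r ∈ Finset.range (Fintype.card n + 1),
        Nat.card {g : Matrix n n F // p g ∧ ((M g) ^ Fintype.card n).rank = r} := by
  classical
  let S := {g : Matrix n n F // p g}
  let f : S → Fin (Fintype.card n + 1) := fun s =>
    ⟨((M s.1) ^ Fintype.card n).rank, Nat.lt_succ_of_le (Matrix.rank_le_card_width _)⟩
  have h1 : Nat.card S = Nat.card (Σ y : Fin (Fintype.card n + 1), {x : S // f x = y}) :=
    Nat.card_congr (Equiv.sigmaFiberEquiv f).symm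
  have h2 : ∀ y : Fin (Fintype.card n + 1), Nat.card {x : S // f x = y} =
      Nat.card {g : Matrix n n F // p g ∧ ((M g) ^ Fintype.card n).rank = (y : ℕ)} := by
    intro y
    refine Nat.card_congr ?_
    refine (Equiv.subtypeEquivRight ?_).trans
      (Equiv.subtypeSubtypeEquivSubtypeInter p
        (fun g => ((M g) ^ Fintype.card n).rank = (y : ℕ)))
    intro x
    simp only [f, Fin.ext_iff]
  show Nat.card S = _
  rw [h1, Nat.card_sigma, Finset.sum_congr rfl (fun y _ => h2 y)]
  exact Fin.sum_univ_eq_sum_range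
    (fun r => Nat.card {g : Matrix n n F // p g ∧ ((M g) ^ Fintype.card n).rank = r})
    (Fintype.card n + 1)

/-- transport of `IsSymp` along a reindexing -/
theorem isSymp_reindex {n' : Type} [Fintype n'] [DecidableEq n'] (e : n ≃ n')
    {K : Matrix n n F} (hK : IsSymp K) : IsSymp (Matrix.reindexAlgEquiv F F e K) := by
  obtain ⟨h1, h2, h3⟩ := hK
  refine ⟨?_, ?_, h3.map (Matrix.reindexAlgEquiv F F e)⟩
  · ext i j
    simp only [Matrix.coe_reindexAlgEquiv, Matrix.reindex_apply, Matrix.transpose_apply,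
      Matrix.submatrix_apply, Matrix.neg_apply]
    have := congrFun (congrFun h1 (e.symm i)) (e.symm j)
    simpa using this
  · intro i
    simp only [Matrix.coe_reindexAlgEquiv, Matrix.reindex_apply, Matrix.submatrix_apply]
    exact h2 _

theorem transpose_reindexAlgEquiv {n' : Type} [Fintype n'] [DecidableEq n'] (e : n ≃ n')
    (A : Matrix n n F) :
    (Matrix.reindexAlgEquiv F F e A)ᵀ = Matrix.reindexAlgEquiv F F e Aᵀ := by
  ext i j
  simp [Matrix.coe_reindexAlgEquiv]

theorem rank_reindexAlgEquiv {n' : Type} [Fintype n'] [DecidableEq n'] (e : n ≃ n')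
    (A : Matrix n n F) : (Matrix.reindexAlgEquiv F F e A).rank = A.rank := by
  rw [Matrix.coe_reindexAlgEquiv, Matrix.rank_reindex]

/-- transport of `Isom` along a reindexing -/
theorem isom_reindex {n' : Type} [Fintype n'] [DecidableEq n'] (e : n ≃ n')
    {K g : Matrix n n F} (hg : Isom K g) :
    Isom (Matrix.reindexAlgEquiv F F e K) (Matrix.reindexAlgEquiv F F e g) := by
  unfold Isom at hg ⊢
  rw [transpose_reindexAlgEquiv, ← map_mul, ← map_mul, hg]

/-- transport of `AffA` along a reindexing -/
theorem affA_reindex {n' : Type} [Fintype n'] [DecidableEq n'] (e : n ≃ n')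
    {K X : Matrix n n F} (hX : AffA K X) :
    AffA (Matrix.reindexAlgEquiv F F e K) (Matrix.reindexAlgEquiv F F e X) := by
  unfold AffA at hX ⊢
  rw [transpose_reindexAlgEquiv, ← map_mul, ← map_mul, ← map_add, ← map_add, hX, map_zero]

theorem isSymp_J (m : ℕ) : IsSymp (Matrix.J (Fin m) F) := by
  refine ⟨Matrix.J_transpose _ _, ?_, ?_⟩
  · intro i
    cases i <;> simp [Matrix.J]
  · exact (Matrix.isUnit_iff_isUnit_det _).2 (Matrix.isUnit_det_J _ _)

/-- the stable rank of `g - 1` for an isometry `g` of a symplectic form is even -/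
theorem even_stableRank_isom (hD : PkgDec1.{u}) (hE : PkgEven.{u}) {K g : Matrix n n F}
    (hK : IsSymp K) (hg : Isom K g) : Even ((g - 1) ^ Fintype.card n).rank := by
  classical
  set r := ((g - 1) ^ Fintype.card n).rank with hr
  have hle : r ≤ Fintype.card n := Matrix.rank_le_card_width _
  have hcard : Fintype.card n = Fintype.card (Fin (Fintype.card n - r) ⊕ Fin r) := by
    simp only [Fintype.card_sum, Fintype.card_fin]
    omega
  let e : n ≃ Fin (Fintype.card n - r) ⊕ Fin r := Fintype.equivOfCardEq hcard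
  have hK' := isSymp_reindex e hK
  have hg' := isom_reindex e hg
  have hrank : ((Matrix.reindexAlgEquiv F F e g - 1) ^
      (Fintype.card (Fin (Fintype.card n - r)) + Fintype.card (Fin r))).rank =
      Fintype.card (Fin r) := by
    have h1 : Fintype.card (Fin (Fintype.card n - r)) + Fintype.card (Fin r) =
        Fintype.card n := by
      simp only [Fintype.card_fin]
      omega
    rw [h1, ← map_one (Matrix.reindexAlgEquiv F F e), ← map_sub, ← map_pow,
      rank_reindexAlgEquiv, Fintype.card_fin]
  obtain ⟨P, K₁, K₂, g₁, g₂, hK₁, hK₂, -⟩ := hD F _ _ _ _ hK' hg' hrank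
  have h := hE F (Fin r) K₂ hK₂
  simpa using h

end generic

/-- **[SUM1]** -/
theorem pkgSum1_of (hD : PkgDec1.{u}) (hE : PkgEven.{u}) : PkgSum1.{u} := by
  intro F _ _ m
  classical
  have hK : IsSymp (Matrix.J (Fin m) F) := isSymp_J m
  have h1 := card_eq_sum_stableRank (F := F) (n := Fin m ⊕ Fin m)
    (fun g => Isom (Matrix.J (Fin m) F) g) (fun g => g - 1)
  have hcard : Fintype.card (Fin m ⊕ Fin m) = 2 * m := by
    simp only [Fintype.card_sum, Fintype.card_fin]
    omega
  have h2 : ∀ r, ¬ Even r → cS1 (Matrix.J (Fin m) F) r = 0 := by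
    intro r hr
    unfold cS1
    have : IsEmpty {g : Matrix (Fin m ⊕ Fin m) (Fin m ⊕ Fin m) F //
        Isom (Matrix.J (Fin m) F) g ∧ ((g - 1) ^ Fintype.card (Fin m ⊕ Fin m)).rank = r} := by
      refine ⟨fun g => hr ?_⟩
      have := even_stableRank_isom hD hE hK g.2.1
      rwa [g.2.2] at this
    exact Nat.card_of_isEmpty
  have h3 := sum_range_even_only (fun r => cS1 (Matrix.J (Fin m) F) r) h2 m
  rw [← h3]
  unfold cI
  have hcard' : Fintype.card (Fin m ⊕ Fin m) + 1 = 2 * m + 1 := by rw [hcard]
  rw [h1, hcard']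
  rfl

end Cfsg.Agent.Lib.Helper35.SPU
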