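import Cfsg.Agent.Lib.Helper35.SPU.Sum1

/-!
# SPU (S2316) package [SUM2]

`PkgDec2 → PkgEven → PkgSum2`: the strata of even stable rank exhaust the affine family.
-/

set_option autoImplicit false

namespace Cfsg.Agent.Lib.Helper35.SPU

open Matrix Cfsg.Agent.Lib.Helper19.SPU

universe u

section generic

variable {F : Type u} [Field F] {n : Type} [Fintype n] [DecidableEq n]

/-- the stable rank of `X² + X` for `X` in the affine family of a symplectic form is even -/
theorem even_stableRank_affA (hD : PkgDec2.{u}) (hE : PkgEven.{u}) {K X : Matrix n n F}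
    (hK : IsSymp K) (hX : AffA K X) : Even ((X * X + X) ^ Fintype.card n).rank := by
  classical
  set r := ((X * X + X) ^ Fintype.card n).rank with hr
  have hle : r ≤ Fintype.card n := Matrix.rank_le_card_width _
  have hcard : Fintype.card n = Fintype.card (Fin (Fintype.card n - r) ⊕ Fin r) := by
    simp only [Fintype.card_sum, Fintype.card_fin]
    omega
  let e : n ≃ Fin (Fintype.card n - r) ⊕ Fin r := Fintype.equivOfCardEq hcard
  have hK' := isSymp_reindex e hK
  have hX' := affA_reindex e hX
  have hrank : ((Matrix.reindexAlgEquiv F F e X * Matrix.reindexAlgEquiv F F e X +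
      Matrix.reindexAlgEquiv F F e X) ^
      (Fintype.card (Fin (Fintype.card n - r)) + Fintype.card (Fin r))).rank =
      Fintype.card (Fin r) := by
    have h1 : Fintype.card (Fin (Fintype.card n - r)) + Fintype.card (Fin r) =
        Fintype.card n := by
      simp only [Fintype.card_fin]
      omega
    rw [h1, ← map_mul, ← map_add, ← map_pow, rank_reindexAlgEquiv, Fintype.card_fin]
  obtain ⟨P, K₁, K₂, X₁, X₂, hK₁, hK₂, -⟩ := hD F _ _ _ _ hK' hX' hrank
  have h := hE F (Fin r) K₂ hK₂
  simpa using h

end generic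

/-- **[SUM2]** -/
theorem pkgSum2_of (hD : PkgDec2.{u}) (hE : PkgEven.{u}) : PkgSum2.{u} := by
  intro F _ _ m
  classical
  have hK : IsSymp (Matrix.J (Fin m) F) := isSymp_J m
  have h1 := card_eq_sum_stableRank (F := F) (n := Fin m ⊕ Fin m)
    (fun X => AffA (Matrix.J (Fin m) F) X) (fun X => X * X + X)
  have hcard : Fintype.card (Fin m ⊕ Fin m) = 2 * m := by
    simp only [Fintype.card_sum, Fintype.card_fin]
    omega
  have h2 : ∀ r, ¬ Even r → cS2 (Matrix.J (Fin m) F) r = 0 := by
    intro r hr
    unfold cS2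
    have : IsEmpty {X : Matrix (Fin m ⊕ Fin m) (Fin m ⊕ Fin m) F //
        AffA (Matrix.J (Fin m) F) X ∧
          ((X * X + X) ^ Fintype.card (Fin m ⊕ Fin m)).rank = r} := by
      refine ⟨fun X => hr ?_⟩
      have := even_stableRank_affA hD hE hK X.2.1
      rwa [X.2.2] at this
    exact Nat.card_of_isEmpty
  have h3 := sum_range_even_only (fun r => cS2 (Matrix.J (Fin m) F) r) h2 m
  rw [← h3]
  unfold cA
  have hcard' : Fintype.card (Fin m ⊕ Fin m) + 1 = 2 * m + 1 := by rw [hcard]
  rw [h1, hcard']
  rfl

end Cfsg.Agent.Lib.Helper35.SPU
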